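import Cfsg.Agent.Lib.VaughanLee.Series

/-!
# Vaughan-Lee's theorem: class sizes at most `p^b` force `|G'| ≤ p^(b(b+1)/2)`
-/

open Subgroup
open scoped commutatorElement

namespace Cfsg.Agent.VaughanLee

variable {G : Type*} [Group G]

theorem exponent_le {n d b : ℕ} (hn : n ≤ d) (hd : n ≠ 0 → d ≤ b + 1) :
    n.choose 2 + n * (b + 1 - d) ≤ b * (b + 1) / 2 := by
  rcases Nat.eq_zero_or_pos n with rfl | hn0
  · simp
  obtain ⟨e, he⟩ := Nat.exists_eq_add_of_le (hn.trans (hd hn0.ne'))
  obtain ⟨m, rfl⟩ : ∃ m, n = m + 1 := ⟨n - 1, by omega⟩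
  have h1 : b + 1 - d ≤ e := by omega
  refine (Nat.le_div_iff_mul_le two_pos).mpr ?_
  have h2 : (m + 1).choose 2 * 2 = (m + 1) * m := by
    rw [Nat.choose_two_right, Nat.add_sub_cancel,
      Nat.div_mul_cancel (Nat.even_mul.mpr (by
        rcases Nat.even_or_odd m with h | h
        · exact Or.inr h
        · exact Or.inl h.add_one)).two_dvd]
  have h3 : (m + 1) * (b + 1 - d) ≤ (m + 1) * e := Nat.mul_le_mul_left _ h1
  have hb : b = m + e := by omega
  subst hb
  rcases Nat.eq_zero_or_pos e with rfl | he0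
  · simp only [Nat.le_zero] at h1
    rw [h1, Nat.mul_zero, Nat.add_zero, h2]
    simp [Nat.mul_comm]
  · nlinarith

theorem centralizer_subgroupOf (M : Subgroup G) (x : M) :
    centralizer ({x} : Set M) = (centralizer ({(x : G)} : Set G)).subgroupOf M := by
  ext y
  simp only [mem_subgroupOf, mem_centralizer_singleton_iff, Subtype.ext_iff, Subgroup.coe_mul]

variable [Finite G] {p : ℕ} [hp : Fact p.Prime]

theorem card_commutator_le_of_no_reduction (hG : IsPGroup p G) (b : ℕ)
    (hb : ∀ x : G, (centralizer ({x} : Set G)).index ≤ p ^ b)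
    (hmax : ∀ M : Subgroup G, IsCoatom M → ⁅M, M⁆ ≠ _root_.commutator G) :
    Nat.card (_root_.commutator G) ≤ p ^ (b * (b + 1) / 2) := by
  haveI := hG.isNilpotent
  obtain ⟨d, hd⟩ := hG.index (frattini G)
  obtain ⟨S, hgood, hStop, hScard⟩ := exists_good_finset hG hmax (frattini G) le_rfl
  have hS : closure (S : Set G) = ⊤ := PGroup.eq_top_of_sup_frattini hStop
  rw [hd] at hScard
  have hn : S.card ≤ d := (Nat.pow_le_pow_iff_right hp.out.one_lt).mp hScard
  have hr : ∀ s ∈ S, p ^ d * (centralizer {s}).relIndex (frattini G) ≤ p ^ (b + 1) := by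
    intro s hs
    set C := centralizer {s} with hC
    have hle : C ≤ zpowers s ⊔ frattini G := (hgood s hs).centralizer_le hG
    have h1 : (frattini G).relIndex C ≤ p := by
      rw [← QuotientGroup.ker_mk' (frattini G), Subgroup.relIndex_ker]
      refine (card_le_of_le (le_trans (map_mono hle) (le_of_eq ?_))).trans
        (?_ : Nat.card (zpowers (QuotientGroup.mk' (frattini G) s)) ≤ p)
      · rw [Subgroup.map_sup, MonoidHom.map_zpowers, QuotientGroup.map_mk'_self, sup_bot_eq]
      · rw [Nat.card_zpowers]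
        refine orderOf_le_of_pow_eq_one hp.out.pos ?_
        rw [← map_pow, QuotientGroup.mk'_apply, QuotientGroup.eq_one_iff]
        exact PGroup.pow_mem_frattini hG s
    have e1 := Subgroup.relIndex_mul_index (H := C ⊓ frattini G) (K := C) inf_le_left
    have e2 := Subgroup.relIndex_mul_index (H := C ⊓ frattini G) (K := frattini G) inf_le_right
    rw [inf_comm, inf_relIndex_right] at e1
    rw [inf_relIndex_right] at e2
    rw [inf_comm, e1.symm, hd] at e2
    rw [mul_comm, e2, pow_succ']
    exact Nat.mul_le_mul h1 (hb s)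
  have hd' : S.card ≠ 0 → d ≤ b + 1 := fun h0 => by
    obtain ⟨s, hs⟩ := Finset.card_ne_zero.mp h0
    exact (Nat.pow_le_pow_iff_right hp.out.one_lt).mp
      ((Nat.le_mul_of_pos_right _ (Nat.pos_of_ne_zero (relIndex_ne_zero' _ _))).trans (hr s hs))
  let N : Subgroup G := ⁅frattini G, ⊤⁆
  have hN : Nat.card N ≤ p ^ (S.card * (b + 1 - d)) := by
    refine (card_commutator_le_prod (frattini G) S hS).trans ?_
    rw [mul_comm, pow_mul]
    refine Finset.prod_le_pow_card S _ _ fun s hs => ?_
    have h := hr s hs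
    have hd1 := hd' (Finset.card_ne_zero.mpr ⟨s, hs⟩)
    rw [show b + 1 = d + (b + 1 - d) by omega, pow_add] at h
    exact Nat.le_of_mul_le_mul_left h (pow_pos hp.out.pos _)
  have hcen : ∀ s t g : G, ⁅⁅s, t⁆, g⁆ ∈ N := fun s t g =>
    commutator_mem_commutator (PGroup.commutatorElement_mem_frattini hG s t) (mem_top g)
  have hpow : ∀ s t : G, ⁅s, t⁆ ^ p ∈ N := by
    intro s t
    rw [← QuotientGroup.eq_one_iff, QuotientGroup.mk_pow]
    show (QuotientGroup.mk' N ⁅s, t⁆) ^ p = 1
    rw [map_commutatorElement, ← PGroup.commutator_pow_left ?_ p, ← map_pow,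
      ← map_commutatorElement]
    · exact (QuotientGroup.eq_one_iff _).mpr
        (commutator_mem_commutator (PGroup.pow_mem_frattini hG s) (mem_top t))
    · rw [← map_commutatorElement]
      exact ((commElem_mem_iff N _ _).mp (hcen s t s)).symm
  calc Nat.card (_root_.commutator G) ≤ Nat.card N * p ^ (S.card.choose 2) :=
        card_derived_le hp.out.pos S hS hcen hpow
    _ ≤ p ^ (S.card * (b + 1 - d)) * p ^ (S.card.choose 2) := Nat.mul_le_mul_right _ hN
    _ ≤ p ^ (b * (b + 1) / 2) := by
      rw [← pow_add, Nat.add_comm]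
      exact Nat.pow_le_pow_right hp.out.pos (exponent_le hn hd')

universe u in
theorem card_commutator_le {G : Type u} [Group G] [Finite G] (hG : IsPGroup p G) (b : ℕ)
    (hb : ∀ x : G, (centralizer ({x} : Set G)).index ≤ p ^ b) :
    Nat.card (_root_.commutator G) ≤ p ^ (b * (b + 1) / 2) := by
  induction hn : Nat.card G using Nat.strong_induction_on generalizing G with
  | _ n ih =>
    by_cases h : ∀ M : Subgroup G, IsCoatom M → ⁅M, M⁆ ≠ _root_.commutator G
    · exact card_commutator_le_of_no_reduction hG b hb h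
    · simp only [not_forall, not_not] at h
      obtain ⟨M, hM, hMG⟩ := h
      have hlt : Nat.card M < n := hn ▸ lt_of_lt_of_le
        (lt_mul_of_one_lt_left (Nat.card_pos (α := M)) hp.out.one_lt)
        ((PGroup.mul_card_le_of_lt hG hM.lt_top).trans card_top.le)
      have := ih _ hlt (hG.to_subgroup M) (fun x => by
        rw [centralizer_subgroupOf]
        refine le_trans ?_ (hb x)
        exact (relIndex_le_of_le_right (le_top : M ≤ ⊤)
          (relIndex_ne_zero' (centralizer {(x : G)}) ⊤)).trans_eq (relIndex_top_right _)) rfl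
      rwa [← hMG, ← Subgroup.map_subtype_commutator,
        card_map_of_injective M.subtype_injective]

end Cfsg.Agent.VaughanLee
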