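import Cfsg.Agent.Lib.PGroup.Basic

/-!
# Vaughan-Lee: elements with small centralizer

For a finite p-group in which every maximal subgroup has derived subgroup different from the
whole derived subgroup, every maximal subgroup avoids some `x` with `C(x) ≤ ⟨x⟩ Φ(G)`.
-/

open Subgroup
open scoped commutatorElement

namespace Cfsg.Agent.VaughanLee

variable {G : Type*} [Group G]

/-- Commutation modulo a normal subgroup. -/
theorem commElem_mem_iff (N : Subgroup G) [N.Normal] (x y : G) :
    ⁅x, y⁆ ∈ N ↔ Commute (x : G ⧸ N) (y : G ⧸ N) := by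
  rw [← QuotientGroup.eq_one_iff]
  show QuotientGroup.mk' N ⁅x, y⁆ = 1 ↔ _
  rw [map_commutatorElement, commutatorElement_eq_one_iff_commute]
  rfl

/-- The elements commuting with `x` modulo `N`. -/
def centMod (N : Subgroup G) [N.Normal] (x : G) : Subgroup G :=
  (centralizer {(x : G ⧸ N)}).comap (QuotientGroup.mk' N)

theorem mem_centMod {N : Subgroup G} [N.Normal] {x g : G} :
    g ∈ centMod N x ↔ ⁅x, g⁆ ∈ N := by
  rw [commElem_mem_iff, centMod, mem_comap, mem_centralizer_singleton_iff]
  exact ⟨fun h => h.symm, fun h => h.symm⟩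

/-- The preimage of the centre of `G / N`. -/
def centerMod (N : Subgroup G) [N.Normal] : Subgroup G :=
  (center (G ⧸ N)).comap (QuotientGroup.mk' N)

theorem mem_centerMod {N : Subgroup G} [N.Normal] {x : G} :
    x ∈ centerMod N ↔ ∀ g, ⁅x, g⁆ ∈ N := by
  rw [centerMod, mem_comap, Subgroup.mem_center_iff]
  constructor
  · intro h g
    rw [commElem_mem_iff]
    exact (h g).symm
  · intro h q
    obtain ⟨g, rfl⟩ := QuotientGroup.mk_surjective q
    exact ((commElem_mem_iff N x g).mp (h g)).symm

theorem commElem_symm_mem {N : Subgroup G} {x y : G} (h : ⁅x, y⁆ ∈ N) : ⁅y, x⁆ ∈ N := by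
  rw [← commutatorElement_inv]; exact inv_mem h

theorem eq_top_of_isCoatom_le {M K : Subgroup G} (hM : IsCoatom M) (hle : M ≤ K) {r : G}
    (hr : r ∈ K) (hrM : r ∉ M) : K = ⊤ :=
  hM.2 K (lt_of_le_of_ne hle fun h => hrM (h ▸ hr))

theorem isCoatom_of_index_prime {p : ℕ} (hp : p.Prime) {M : Subgroup G} (hM : M.index = p) :
    IsCoatom M := by
  refine ⟨fun h => hp.one_lt.ne' (by rw [← hM, h, index_top]), fun K hK => ?_⟩
  have h := Subgroup.relIndex_mul_index hK.le
  rw [hM] at h
  rcases (Nat.dvd_prime hp).mp (Dvd.intro_left _ h) with h1 | h1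
  · exact index_eq_one.mp h1
  · rw [h1] at h
    have h2 : M.relIndex K = 1 := Nat.eq_of_mul_eq_mul_right hp.pos (h.trans (one_mul p).symm)
    exact absurd (relIndex_eq_one.mp h2) hK.not_ge

/-- The group of homomorphisms to a group of order `p`. -/
abbrev Hom (p : ℕ) (G : Type*) [Group G] := G →* Multiplicative (ZMod p)

/-- The derived subgroup of the kernel. -/
abbrev kerDer {p : ℕ} (a : Hom p G) : Subgroup G := ⁅a.ker, a.ker⁆

/-- `x` is good if its centralizer lies in `⟨x⟩ Φ(G)`, in the strong sense needed here. -/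
def Good (p : ℕ) (x : G) : Prop :=
  x ∉ frattini G ∧ ∀ y, (∀ a : Hom p G, a x = 1 → a y ≠ 1 → x ∈ centerMod (kerDer a)) →
    y ∈ zpowers x ⊔ frattini G

section pgroup

variable [Finite G] {p : ℕ} [hp : Fact p.Prime]

theorem hom_surjective {H : Type*} [Group H] {f : H →* Multiplicative (ZMod p)} {h : H}
    (hh : f h ≠ 1) : f.range = ⊤ := by
  haveI : Fact (Nat.card (Multiplicative (ZMod p))).Prime := by
    rw [Nat.card_congr Multiplicative.toAdd, Nat.card_zmod]; exact hp
  rcases f.range.eq_bot_or_eq_top_of_prime_card with h0 | h0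
  · exact absurd ((Subgroup.eq_bot_iff_forall _).mp h0 _ ⟨h, rfl⟩) hh
  · exact h0

theorem card_hom_ker_mul {H : Type*} [Group H] {f : H →* Multiplicative (ZMod p)} {h : H}
    (hh : f h ≠ 1) : Nat.card f.ker * p = Nat.card H := by
  have := f.ker.card_mul_index
  rwa [Subgroup.index_ker, hom_surjective hh, card_top,
    Nat.card_congr Multiplicative.toAdd, Nat.card_zmod] at this

theorem ker_isCoatom {a : Hom p G} (ha : a ≠ 1) : IsCoatom a.ker := by
  obtain ⟨g, hg⟩ : ∃ g, a g ≠ 1 := by
    by_contra h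
    exact ha (MonoidHom.ext fun g => by simpa using not_exists.mp h g)
  refine isCoatom_of_index_prime hp.out ?_
  rw [Subgroup.index_ker, hom_surjective hg, card_top, Nat.card_congr Multiplicative.toAdd,
    Nat.card_zmod]

/-- Separation by homomorphisms to a group of order `p`. -/
theorem exists_hom (hG : IsPGroup p G) {N : Subgroup G} (hN : frattini G ≤ N) {y : G}
    (hy : y ∉ N) : ∃ a : Hom p G, (∀ n ∈ N, a n = 1) ∧ a y ≠ 1 := by
  have hc : _root_.commutator G ≤ N := (PGroup.commutator_le_frattini hG).trans hN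
  haveI : N.Normal := Normal.of_commutator_le _ hc
  obtain ⟨M, hM, hyM⟩ := PGroup.exists_isCoatom_not_mem (G := G ⧸ N) (p := p)
    (fun u v => by
      obtain ⟨g, rfl⟩ := QuotientGroup.mk_surjective u
      obtain ⟨h, rfl⟩ := QuotientGroup.mk_surjective v
      exact ((commElem_mem_iff N g h).mp
        (hc (commutator_mem_commutator (mem_top g) (mem_top h)))).eq)
    (fun u => by
      obtain ⟨g, rfl⟩ := QuotientGroup.mk_surjective u
      rw [← QuotientGroup.mk_pow, QuotientGroup.eq_one_iff]
      exact hN (PGroup.pow_mem_frattini hG g))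
    (x := (y : G ⧸ N)) (by rwa [Ne, QuotientGroup.eq_one_iff])
  have hQ : IsPGroup p (G ⧸ N) := hG.to_quotient N
  haveI := PGroup.isCoatom_normal hQ hM
  let e : (G ⧸ N) ⧸ M ≃* Multiplicative (ZMod p) :=
    mulEquivOfPrimeCardEq (p := p) (by rw [← M.index_eq_card, PGroup.isCoatom_index hQ hM])
      (by rw [Nat.card_congr Multiplicative.toAdd, Nat.card_zmod])
  refine ⟨(e.toMonoidHom.comp (QuotientGroup.mk' M)).comp (QuotientGroup.mk' N), fun n hn => ?_,
    fun h => hyM ?_⟩
  · simp [(QuotientGroup.eq_one_iff n).mpr hn]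
  · simpa using h

variable (hG : IsPGroup p G)
  (hmax : ∀ M : Subgroup G, IsCoatom M → ⁅M, M⁆ ≠ _root_.commutator G)

include hG in
theorem Good.centralizer_le {x : G} (hx : Good p x) :
    centralizer {x} ≤ zpowers x ⊔ frattini G := by
  intro y hy
  refine hx.2 y fun a hax hay => mem_centerMod.mpr fun g => ?_
  have hxy : ⁅x, y⁆ = 1 :=
    commutatorElement_eq_one_iff_commute.mpr (mem_centralizer_singleton_iff.mp hy).symm
  have hM : IsCoatom a.ker := ker_isCoatom fun h => hay (by rw [h]; rfl)
  have htop : centMod (kerDer a) x = ⊤ := eq_top_of_isCoatom_le hM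
    (fun m hm => mem_centMod.mpr (commutator_mem_commutator hax hm))
    (mem_centMod.mpr (by rw [hxy]; exact one_mem _)) hay
  exact mem_centMod.mp (htop ▸ mem_top g)

include hmax in
theorem centerMod_ne_top {a : Hom p G} (ha : a ≠ 1) : centerMod (kerDer a) ≠ ⊤ := fun h =>
  hmax _ (ker_isCoatom ha) <| le_antisymm (commutator_mono le_top le_top) <|
    commutator_le.mpr fun x _ g _ => mem_centerMod.mp (h ▸ mem_top x) g

include hmax in
theorem centerMod_lt_ker {a : Hom p G} (ha : a ≠ 1) : centerMod (kerDer a) < a.ker := by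
  have hM := ker_isCoatom ha
  have hne := centerMod_ne_top hmax ha
  have hle : centerMod (kerDer a) ≤ a.ker := by
    intro r hr
    by_contra hrM
    refine hne (eq_top_of_isCoatom_le hM (fun m hm => mem_centerMod.mpr fun g => ?_) hr hrM)
    have htop : centMod (kerDer a) m = ⊤ := eq_top_of_isCoatom_le hM
      (fun m' hm' => mem_centMod.mpr (commutator_mem_commutator hm hm'))
      (mem_centMod.mpr (commElem_symm_mem (mem_centerMod.mp hr m))) hrM
    exact mem_centMod.mp (htop ▸ mem_top g)
  refine lt_of_le_of_ne hle fun h => ?_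
  obtain ⟨r, -, hrM⟩ := SetLike.exists_of_lt hM.lt_top
  have htop : centMod (kerDer a) r = ⊤ := eq_top_of_isCoatom_le hM
    (fun m hm => mem_centMod.mpr (commElem_symm_mem (mem_centerMod.mp (h.ge hm) r)))
    (mem_centMod.mpr (by rw [commutatorElement_self]; exact one_mem _)) hrM
  refine hrM (h.le (mem_centerMod.mpr fun g => mem_centMod.mp ?_))
  rw [htop]
  exact mem_top g

include hG hmax in
theorem sq_mul_card_centerMod_le {a : Hom p G} (ha : a ≠ 1) :
    p ^ 2 * Nat.card (centerMod (kerDer a)) ≤ Nat.card G := by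
  have h1 := PGroup.mul_card_le_of_lt hG (centerMod_lt_ker hmax ha)
  have h2 := PGroup.mul_card_le_of_lt hG (ker_isCoatom ha).lt_top
  rw [card_top] at h2
  rw [pow_two, mul_assoc]
  exact (Nat.mul_le_mul_left p h1).trans h2

open Classical in
theorem card_filter_mem_diff [Fintype G] (R M : Subgroup G) :
    (Finset.univ.filter fun x => x ∈ R ∧ x ∉ M).card + Nat.card (R ⊓ M : Subgroup G) =
      Nat.card R := by
  have h := Finset.card_filter_add_card_filter_not
    (s := Finset.univ.filter fun x => x ∈ R) (fun x => x ∉ M)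
  simp only [Finset.filter_filter, not_not] at h
  rw [Nat.card_eq_fintype_card, Nat.card_eq_fintype_card, Fintype.card_subtype,
    Fintype.card_subtype]
  simpa [mem_inf] using h

open Classical in
include hG in
/-- The share of `G ∖ M₀` covered by a subgroup of index at least `p²`. -/
theorem sq_mul_card_diff_le [Fintype G] {R M₀ : Subgroup G} (hR : p ^ 2 * Nat.card R ≤ Nat.card G)
    (hM₀ : IsCoatom M₀) :
    p ^ 2 * (Finset.univ.filter fun x => x ∈ R ∧ x ∉ M₀).card ≤
      (Finset.univ.filter fun x => x ∉ M₀).card := by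
  have hidx := PGroup.isCoatom_index hG hM₀
  haveI := PGroup.isCoatom_normal hG hM₀
  have h1 := card_filter_mem_diff R M₀
  have h2 := card_filter_mem_diff (⊤ : Subgroup G) M₀
  rw [top_inf_eq, card_top] at h2
  simp only [mem_top, true_and] at h2
  have h3 : Nat.card M₀ * p = Nat.card G := hidx ▸ M₀.card_mul_index
  have h4 : Nat.card R ≤ Nat.card (R ⊓ M₀ : Subgroup G) * p := by
    have h := Subgroup.relIndex_mul_relIndex ⊥ (R ⊓ M₀) R bot_le inf_le_left
    rw [relIndex_bot_left, relIndex_bot_left, inf_relIndex_left] at h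
    rw [← h]
    exact Nat.mul_le_mul_left _
      (hidx ▸ Nat.le_of_dvd (hidx ▸ hp.out.pos) (relIndex_dvd_index_of_normal M₀ R))
  have hp1 : 1 ≤ p := hp.out.pos
  generalize (Finset.univ.filter fun x => x ∈ R ∧ x ∉ M₀).card = u at *
  generalize (Finset.univ.filter fun x => x ∉ M₀).card = v at *
  obtain ⟨q, rfl⟩ : ∃ q, p = q + 1 := ⟨p - 1, by omega⟩
  have ha : (q + 1) * u ≤ q * Nat.card R := by
    have h5 : (q + 1) * (u + Nat.card (R ⊓ M₀ : Subgroup G)) = (q + 1) * Nat.card R := by rw [h1]
    linarith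
  have hb : (q + 1) * v = q * Nat.card G := by
    have h5 : (q + 1) * (v + Nat.card M₀) = (q + 1) * Nat.card G := by rw [h2]
    linarith
  have hgoal : (q + 1) * ((q + 1) ^ 2 * u) ≤ (q + 1) * v :=
    calc (q + 1) * ((q + 1) ^ 2 * u) = (q + 1) ^ 2 * ((q + 1) * u) := by ring
      _ ≤ (q + 1) ^ 2 * (q * Nat.card R) := Nat.mul_le_mul_left _ ha
      _ = q * ((q + 1) ^ 2 * Nat.card R) := by ring
      _ ≤ q * Nat.card G := Nat.mul_le_mul_left _ hR
      _ = (q + 1) * v := hb.symm
  exact Nat.le_of_mul_le_mul_left hgoal (Nat.succ_pos q)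

open Classical in
include hG in
theorem sq_mul_card_sep [Fintype (Hom p G)] {x y : G} (hx : x ∉ frattini G)
    (hy : y ∉ zpowers x ⊔ frattini G) :
    p ^ 2 * (Finset.univ.filter fun a : Hom p G => a x = 1 ∧ a y ≠ 1).card =
      (p - 1) * Nat.card (Hom p G) := by
  let evx : Hom p G →* Multiplicative (ZMod p) := MonoidHom.eval x
  let evy : evx.ker →* Multiplicative (ZMod p) := (MonoidHom.eval y).comp evx.ker.subtype
  obtain ⟨a, -, ha⟩ := exists_hom hG le_rfl hx
  obtain ⟨b, hb1, hb⟩ := exists_hom hG le_sup_right hy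
  have hb' : b ∈ evx.ker := hb1 x (mem_sup_left (mem_zpowers x))
  have h1 : Nat.card evx.ker * p = Nat.card (Hom p G) := card_hom_ker_mul (h := a) ha
  have h2 : Nat.card evy.ker * p = Nat.card evx.ker := card_hom_ker_mul (h := ⟨b, hb'⟩) hb
  have h3 : (Finset.univ.filter fun a : Hom p G => a x = 1 ∧ a y ≠ 1).card + Nat.card evy.ker =
      Nat.card evx.ker := by
    have h := card_filter_mem_diff evx.ker (MonoidHom.eval y).ker
    have he : (evx.ker ⊓ (MonoidHom.eval y).ker : Subgroup (Hom p G)) =
        evy.ker.map evx.ker.subtype := by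
      ext c
      simp [evy, and_comm, mem_inf]
    rw [he, card_map_of_injective evx.ker.subtype_injective] at h
    simpa [evx] using h
  generalize (Finset.univ.filter fun a : Hom p G => a x = 1 ∧ a y ≠ 1).card = u at *
  rw [← h1, ← h2]
  have h4 : u + Nat.card evy.ker = Nat.card evy.ker * p := h3.trans h2.symm
  have h5 : u = (p - 1) * Nat.card evy.ker := by
    rw [Nat.sub_mul, one_mul, mul_comm p]; omega
  rw [h5]; ring

include hG hmax in
/-- Every maximal subgroup avoids a good element. -/
theorem exists_good_not_mem {M₀ : Subgroup G} (hM₀ : IsCoatom M₀) :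
    ∃ x, Good p x ∧ x ∉ M₀ := by
  classical
  haveI : Finite (Hom p G) := Finite.of_injective _ DFunLike.coe_injective
  letI := Fintype.ofFinite G
  letI := Fintype.ofFinite (Hom p G)
  by_contra hcon
  simp only [not_exists, not_and, not_not] at hcon
  set B := Finset.univ.filter fun x : G => x ∉ M₀ with hB
  set A' := Finset.univ.filter fun a : Hom p G => a ≠ 1 with hA'
  have hBpos : 0 < B.card := by
    obtain ⟨r, -, hr⟩ := SetLike.exists_of_lt hM₀.lt_top
    exact Finset.card_pos.mpr ⟨r, by simp [hB, hr]⟩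
  have key : ∀ x ∈ B, (p - 1) * Nat.card (Hom p G) ≤
      p ^ 2 * (A'.filter fun a => x ∈ centerMod (kerDer a)).card := by
    intro x hx
    have hxM : x ∉ M₀ := by simpa [hB] using hx
    have hxΦ : x ∉ frattini G := fun h => hxM (frattini_le_coatom hM₀ h)
    obtain ⟨y, hy, hy'⟩ : ∃ y, (∀ a : Hom p G, a x = 1 → a y ≠ 1 → x ∈ centerMod (kerDer a)) ∧
        y ∉ zpowers x ⊔ frattini G := by
      by_contra h
      simp only [not_exists, not_and, not_not] at h
      exact hxM (hcon x ⟨hxΦ, h⟩)
    rw [← sq_mul_card_sep hG hxΦ hy']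
    refine Nat.mul_le_mul_left _ (Finset.card_le_card fun a ha => ?_)
    rw [Finset.mem_filter] at ha
    simp only [hA', Finset.mem_filter, Finset.mem_univ, true_and]
    exact ⟨fun h => ha.2.2 (by rw [h]; rfl), hy a ha.2.1 ha.2.2⟩
  have hsum := Finset.sum_le_sum key
  rw [Finset.sum_const, smul_eq_mul, ← Finset.mul_sum] at hsum
  have hswap : (∑ x ∈ B, (A'.filter fun a => x ∈ centerMod (kerDer a)).card) =
      ∑ a ∈ A', (B.filter fun x => x ∈ centerMod (kerDer a)).card :=
    Finset.sum_card_bipartiteAbove_eq_sum_card_bipartiteBelow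
      (fun (x : G) (a : Hom p G) => x ∈ centerMod (kerDer a))
  rw [hswap, Finset.mul_sum] at hsum
  have hbound : ∀ a ∈ A', p ^ 2 * (B.filter fun x => x ∈ centerMod (kerDer a)).card ≤ B.card := by
    intro a ha
    have ha' : a ≠ 1 := by simpa [hA'] using ha
    refine le_trans (le_of_eq ?_)
      (sq_mul_card_diff_le hG (sq_mul_card_centerMod_le hG hmax ha') hM₀)
    rw [hB, Finset.filter_filter]
    congr 2
    ext x; simp [and_comm]
  have hA : A'.card < Nat.card (Hom p G) := by
    rw [Nat.card_eq_fintype_card, ← Finset.card_univ]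
    exact Finset.card_lt_card ⟨Finset.filter_subset _ _, fun h => by
      simpa [hA'] using h (Finset.mem_univ (1 : Hom p G))⟩
  have h := hsum.trans (Finset.sum_le_sum hbound)
  rw [Finset.sum_const, smul_eq_mul] at h
  have hp1 : 1 ≤ p - 1 := by have := hp.out.two_le; omega
  have h2 := Nat.mul_lt_mul_of_pos_right hA hBpos
  have h3 : B.card * Nat.card (Hom p G) ≤ B.card * ((p - 1) * Nat.card (Hom p G)) :=
    Nat.mul_le_mul_left _ (Nat.le_mul_of_pos_left _ hp1)
  rw [mul_comm (Nat.card (Hom p G))] at h2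
  omega

include hG hmax in
/-- A small generating set of good elements modulo any subgroup above the Frattini subgroup. -/
theorem exists_good_finset (N : Subgroup G) (hN : frattini G ≤ N) :
    ∃ S : Finset G, (∀ s ∈ S, Good p s) ∧ closure (S : Set G) ⊔ N = ⊤ ∧
      p ^ S.card ≤ N.index := by
  classical
  induction hk : N.index using Nat.strong_induction_on generalizing N with
  | _ k ih =>
    by_cases htop : N = ⊤
    · exact ⟨∅, by simp, by simp [htop], by simp [← hk, htop]⟩
    obtain ⟨M, hM, hNM⟩ := (IsCoatomic.eq_top_or_exists_le_coatom N).resolve_left htop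
    obtain ⟨x, hx, hxM⟩ := exists_good_not_mem hG hmax hM
    have hlt : N < N ⊔ zpowers x :=
      lt_of_le_of_ne le_sup_left fun h => hxM (hNM (h ▸ mem_sup_right (mem_zpowers x)))
    have hmul : (N ⊔ zpowers x).index * p ≤ N.index := by
      have h1 := PGroup.mul_card_le_of_lt hG hlt
      have h2 := N.card_mul_index
      have h3 := (N ⊔ zpowers x).card_mul_index
      refine Nat.le_of_mul_le_mul_left ?_ (Nat.card_pos (α := N))
      rw [h2, ← h3, mul_comm _ p, ← mul_assoc, mul_comm _ p]
      exact Nat.mul_le_mul_right _ h1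
    have hpos : 0 < (N ⊔ zpowers x).index :=
      Nat.pos_of_ne_zero (N ⊔ zpowers x).index_ne_zero_of_finite
    obtain ⟨S, hS, hStop, hScard⟩ := ih (N ⊔ zpowers x).index
      (by have := hp.out.two_le; nlinarith) _ (hN.trans le_sup_left) rfl
    refine ⟨insert x S, ?_, ?_, ?_⟩
    · intro s hs
      rcases Finset.mem_insert.mp hs with rfl | hs
      exacts [hx, hS s hs]
    · rw [eq_top_iff, ← hStop]
      refine sup_le ((Subgroup.closure_mono (by simp)).trans le_sup_left) (sup_le le_sup_right ?_)
      exact (zpowers_le.mpr (Subgroup.subset_closure (by simp))).trans le_sup_left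
    · refine (Nat.pow_le_pow_right hp.out.pos (Finset.card_insert_le x S)).trans ?_
      rw [pow_succ, ← hk]
      exact (Nat.mul_le_mul_right p hScard).trans hmul

end pgroup

end Cfsg.Agent.VaughanLee
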