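import Cfsg.Agent.Lib.VaughanLee.Count

/-!
# Vaughan-Lee: the series below a normal subgroup

If `G` is nilpotent, generated by `S`, and `K` is normal, then
`|⁅K, G⁆| ≤ |⁅K, G, G⁆| * ...` and in total `|⁅K, G⁆| ≤ ∏_{s ∈ S} |K : C_K(s)|`.
Also the bound for the derived subgroup modulo a subgroup with central commutators.
-/

open Subgroup
open scoped commutatorElement

namespace Cfsg.Agent.VaughanLee

variable {G : Type*} [Group G]

/-- If all commutators of `K` with generators lie in `N`, all commutators with `K` do. -/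
theorem commElem_mem_of_generators {N : Subgroup G} [N.Normal] {S : Set G} (hS : closure S = ⊤)
    {y : G} (h : ∀ s ∈ S, ⁅y, s⁆ ∈ N) (g : G) : ⁅y, g⁆ ∈ N := by
  have : (⊤ : Subgroup G) ≤ centMod N y := hS ▸ (closure_le _).mpr fun s hs => mem_centMod.mpr (h s hs)
  exact mem_centMod.mp (this (mem_top g))

theorem normal_of_le_center {J : Subgroup G} (h : J ≤ center G) : J.Normal :=
  ⟨fun n hn g => by rwa [Subgroup.mem_center_iff.mp (h hn) g, mul_inv_cancel_right]⟩

theorem card_sup_le_of_le_center [Finite G] {H K : Subgroup G} (hK : K ≤ center G) :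
    Nat.card (H ⊔ K : Subgroup G) ≤ Nat.card H * Nat.card K := by
  haveI := normal_of_le_center hK
  rw [← Nat.card_prod]
  refine Nat.card_le_card_of_surjective
    (fun u : H × K => (⟨u.1.1 * u.2.1, mul_mem_sup u.1.2 u.2.2⟩ : (H ⊔ K : Subgroup G))) ?_
  rintro ⟨x, hx⟩
  obtain ⟨h, hh, k, hk, rfl⟩ := mem_sup_of_normal_right.mp hx
  exact ⟨(⟨h, hh⟩, ⟨k, hk⟩), rfl⟩

theorem card_finsetSup_le [Finite G] {ι : Type*} (S : Finset ι) (R : ι → Subgroup G)
    (hR : ∀ i ∈ S, R i ≤ center G) :
    Nat.card (S.sup R : Subgroup G) ≤ ∏ i ∈ S, Nat.card (R i) := by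
  classical
  induction S using Finset.induction_on with
  | empty => simp
  | insert a S ha ih =>
    rw [Finset.sup_insert, Finset.prod_insert ha, sup_comm, mul_comm]
    exact (card_sup_le_of_le_center (hR a (Finset.mem_insert_self a S))).trans
      (Nat.mul_le_mul_right _ (ih fun i hi => hR i (Finset.mem_insert_of_mem hi)))

theorem card_le_of_le_comap [Finite G] {N K : Subgroup G} [N.Normal] {J : Subgroup (G ⧸ N)}
    (h : K ≤ J.comap (QuotientGroup.mk' N)) : Nat.card K ≤ Nat.card N * Nat.card J := by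
  refine (Nat.le_of_dvd Nat.card_pos (card_dvd_of_le h)).trans (le_of_eq ?_)
  have hle : N ≤ J.comap (QuotientGroup.mk' N) := fun n hn => by
    rw [mem_comap, QuotientGroup.mk'_apply, (QuotientGroup.eq_one_iff n).mpr hn]; exact one_mem J
  have h := Subgroup.relIndex_mul_relIndex ⊥ N (J.comap (QuotientGroup.mk' N)) bot_le hle
  rw [relIndex_bot_left, relIndex_bot_left] at h
  have h2 := Subgroup.relIndex_ker (K := J.comap (QuotientGroup.mk' N)) (QuotientGroup.mk' N)
  rw [QuotientGroup.ker_mk',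
    map_comap_eq_self_of_surjective (QuotientGroup.mk'_surjective N)] at h2
  rw [← h, h2]

/-- The series `K`, `⁅K, G⁆`, `⁅K, G, G⁆`, …. -/
def ser (K : Subgroup G) : ℕ → Subgroup G
  | 0 => K
  | k + 1 => ⁅ser K k, ⊤⁆

theorem ser_normal (K : Subgroup G) [K.Normal] : ∀ k, (ser K k).Normal
  | 0 => inferInstanceAs K.Normal
  | k + 1 => by
    haveI := ser_normal K k
    exact Subgroup.commutator_normal _ _

theorem ser_succ_le (K : Subgroup G) [K.Normal] (k : ℕ) : ser K (k + 1) ≤ ser K k := by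
  haveI := ser_normal K k
  exact commutator_le_left _ _

theorem ser_le_lowerCentralSeries (K : Subgroup G) :
    ∀ k, ser K k ≤ Subgroup.lowerCentralSeries (⊤ : Subgroup G) k
  | 0 => by simp
  | k + 1 => commutator_mono (ser_le_lowerCentralSeries K k) le_rfl

variable [Finite G]

theorem relIndex_ne_zero' (H L : Subgroup G) : H.relIndex L ≠ 0 :=
  (H.subgroupOf L).index_ne_zero_of_finite

/-- One step of the series bound. -/
theorem step_bound {K L M : Subgroup G} [L.Normal] [M.Normal] (hLK : L ≤ K)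
    (hKL : ∀ y ∈ K, ∀ g, ⁅y, g⁆ ∈ L) (hLM : ∀ z ∈ L, ∀ g, ⁅z, g⁆ ∈ M)
    (S : Finset G) (hS : closure (S : Set G) = ⊤) :
    Nat.card (⁅K, (⊤ : Subgroup G)⁆ : Subgroup G) * ∏ s ∈ S, (centralizer {s}).relIndex L ≤
      Nat.card M * ∏ s ∈ S, (centralizer {s}).relIndex K := by
  classical
  have hcen : ∀ z ∈ L, (z : G ⧸ M) ∈ center (G ⧸ M) := fun z hz => by
    rw [Subgroup.mem_center_iff]
    intro q
    obtain ⟨g, rfl⟩ := QuotientGroup.mk_surjective q
    exact ((commElem_mem_iff M z g).mp (hLM z hz g)).symm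
  let φ : G → (K →* G ⧸ M) := fun s => MonoidHom.mk' (fun y => ((⁅(y : G), s⁆ : G) : G ⧸ M))
    (fun y y' => by
      have hy' := hcen _ (hKL y' y'.2 s)
      rw [Subgroup.mem_center_iff] at hy'
      simp only [Subgroup.coe_mul, commutatorElement_mul_left_eq_conj_mul, QuotientGroup.mk_mul,
        QuotientGroup.mk_inv]
      rw [hy', mul_inv_cancel_right, hy'])
  let J : Subgroup (G ⧸ M) := S.sup fun s => (φ s).range
  have hRc : ∀ s ∈ S, (φ s).range ≤ center (G ⧸ M) := by
    rintro s - _ ⟨y, rfl⟩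
    exact hcen _ (hKL y y.2 s)
  have hJc : J ≤ center (G ⧸ M) := Finset.sup_le hRc
  haveI := normal_of_le_center hJc
  have hKJ : ⁅K, (⊤ : Subgroup G)⁆ ≤ J.comap (QuotientGroup.mk' M) := by
    rw [commutator_le]
    intro y hy g _
    exact commElem_mem_of_generators hS (fun s hs => mem_comap.mpr
      ((Finset.le_sup (f := fun s => (φ s).range) hs) ⟨⟨y, hy⟩, rfl⟩)) g
  have hs : ∀ s, Nat.card (φ s).range * (centralizer {s}).relIndex L ≤
      (centralizer {s}).relIndex K := by
    intro s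
    set C := centralizer {s} with hC
    have hker : (C ⊓ K ⊔ L).subgroupOf K ≤ (φ s).ker := by
      rw [← Subgroup.map_le_map_iff_of_injective K.subtype_injective,
        subgroupOf_map_subtype]
      refine inf_le_left.trans (sup_le (fun y hy => ?_) fun z hz => ?_)
      · refine ⟨⟨y, hy.2⟩, ?_, rfl⟩
        show ((⁅y, s⁆ : G) : G ⧸ M) = 1
        rw [commutatorElement_eq_one_iff_commute.mpr (mem_centralizer_singleton_iff.mp hy.1)]
        exact QuotientGroup.mk_one M
      · exact ⟨⟨z, hLK hz⟩, (QuotientGroup.eq_one_iff _).mpr (hLM z hz s), rfl⟩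
    have h1 : Nat.card (φ s).range ≤ (C ⊓ K ⊔ L).relIndex K := by
      rw [← Subgroup.index_ker]
      exact Nat.le_of_dvd (Nat.pos_of_ne_zero Subgroup.index_ne_zero_of_finite)
        (index_dvd_of_le hker)
    have hLX : L ≤ C ⊓ K ⊔ L := le_sup_right
    have e1 := Subgroup.relIndex_mul_relIndex (C ⊓ K) (C ⊓ K ⊔ L) K le_sup_left
      (sup_le inf_le_right hLK)
    rw [inf_relIndex_right] at e1
    have e2 : C.relIndex L ≤ (C ⊓ K).relIndex (C ⊓ K ⊔ L) := by
      have : (C ⊓ K).relIndex L = C.relIndex L := by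
        rw [← inf_relIndex_right (C ⊓ K) L, inf_assoc, inf_of_le_right hLK, inf_relIndex_right]
      rw [← this]
      exact relIndex_le_of_le_right hLX (relIndex_ne_zero' _ _)
    rw [← e1, mul_comm (Nat.card _)]
    exact Nat.mul_le_mul e2 h1
  calc Nat.card (⁅K, (⊤ : Subgroup G)⁆ : Subgroup G) * ∏ s ∈ S, (centralizer {s}).relIndex L
      ≤ (Nat.card M * ∏ s ∈ S, Nat.card (φ s).range) * ∏ s ∈ S, (centralizer {s}).relIndex L :=
        Nat.mul_le_mul_right _ ((card_le_of_le_comap hKJ).trans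
          (Nat.mul_le_mul_left _ (card_finsetSup_le S _ hRc)))
    _ ≤ _ := by
      rw [mul_assoc, ← Finset.prod_mul_distrib]
      exact Nat.mul_le_mul_left _ (Finset.prod_le_prod (fun _ _ => Nat.zero_le _) fun s _ => hs s)

/-- `|⁅K, G⁆| ≤ ∏_{s ∈ S} |K : C_K(s)|` for `G` nilpotent generated by `S`. -/
theorem card_commutator_le_prod [Group.IsNilpotent G] (K : Subgroup G) [K.Normal]
    (S : Finset G) (hS : closure (S : Set G) = ⊤) :
    Nat.card (⁅K, (⊤ : Subgroup G)⁆ : Subgroup G) ≤ ∏ s ∈ S, (centralizer {s}).relIndex K := by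
  suffices ∀ j k, ser K (k + j) = ⊥ →
      Nat.card (ser K (k + 1)) ≤ ∏ s ∈ S, (centralizer {s}).relIndex (ser K k) by
    refine this (Group.nilpotencyClass G) 0 ?_
    rw [Nat.zero_add, eq_bot_iff, ← Subgroup.lowerCentralSeries_nilpotencyClass (G := G)]
    exact ser_le_lowerCentralSeries K _
  have hpos : ∀ L : Subgroup G, 0 < ∏ s ∈ S, (centralizer {s}).relIndex L := fun L =>
    Finset.prod_pos fun s _ => Nat.pos_of_ne_zero (relIndex_ne_zero' _ _)
  intro j
  induction j with
  | zero =>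
    intro k h
    rw [Nat.add_zero] at h
    have hbot : ser K (k + 1) = ⊥ := le_bot_iff.mp (h ▸ ser_succ_le K k)
    rw [hbot, Subgroup.card_bot]
    exact hpos _
  | succ j ih =>
    intro k h
    have h' := ih (k + 1) (by rw [show k + 1 + j = k + (j + 1) by ring]; exact h)
    haveI := ser_normal K (k + 1)
    haveI := ser_normal K (k + 1 + 1)
    have hb := step_bound (K := ser K k) (L := ser K (k + 1)) (M := ser K (k + 1 + 1))
      (ser_succ_le K k) (fun y hy g => commutator_mem_commutator hy (mem_top g))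
      (fun y hy g => commutator_mem_commutator hy (mem_top g)) S hS
    exact Nat.le_of_mul_le_mul_right (hb.trans (by
      rw [mul_comm]; exact Nat.mul_le_mul_left _ h')) (hpos (ser K (k + 1)))

/-- The derived subgroup modulo `N`, when commutators of generators are central of order `p`. -/
theorem card_derived_le {p : ℕ} (hp : 0 < p) {N : Subgroup G} [N.Normal] (S : Finset G)
    (hS : closure (S : Set G) = ⊤) (hcen : ∀ s t : G, ∀ g, ⁅⁅s, t⁆, g⁆ ∈ N)
    (hpow : ∀ s t : G, ⁅s, t⁆ ^ p ∈ N) :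
    Nat.card (_root_.commutator G) ≤ Nat.card N * p ^ (S.card.choose 2) := by
  classical
  have hc : ∀ s t : G, zpowers ((⁅s, t⁆ : G) : G ⧸ N) ≤ center (G ⧸ N) := fun s t => by
    rw [zpowers_le, Subgroup.mem_center_iff]
    intro q
    obtain ⟨g, rfl⟩ := QuotientGroup.mk_surjective q
    exact ((commElem_mem_iff N _ g).mp (hcen s t g)).symm
  have hcard : ∀ s t : G, Nat.card (zpowers ((⁅s, t⁆ : G) : G ⧸ N)) ≤ p := fun s t => by
    rw [Nat.card_zpowers]
    exact orderOf_le_of_pow_eq_one hp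
      (by rw [← QuotientGroup.mk_pow, QuotientGroup.eq_one_iff]; exact hpow s t)
  obtain ⟨J, hJc, hJcard, hJmem⟩ : ∃ J : Subgroup (G ⧸ N), J ≤ center (G ⧸ N) ∧
      Nat.card J ≤ p ^ (S.card.choose 2) ∧ ∀ s ∈ S, ∀ t ∈ S, ((⁅s, t⁆ : G) : G ⧸ N) ∈ J := by
    clear hS
    induction S using Finset.induction_on with
    | empty => exact ⟨⊥, bot_le, by simp, by simp⟩
    | insert a S ha ih =>
      obtain ⟨J, hJc, hJcard, hJmem⟩ := ih
      refine ⟨J ⊔ S.sup fun t => zpowers ((⁅a, t⁆ : G) : G ⧸ N),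
        sup_le hJc (Finset.sup_le fun t _ => hc a t), ?_, ?_⟩
      · refine (card_sup_le_of_le_center (Finset.sup_le fun t _ => hc a t)).trans ?_
        rw [Finset.card_insert_of_notMem ha, Nat.choose_succ_succ', Nat.choose_one_right,
          Nat.add_comm, pow_add]
        refine Nat.mul_le_mul hJcard ((card_finsetSup_le S _ fun t _ => hc a t).trans ?_)
        exact (Finset.prod_le_pow_card S _ p fun t _ => hcard a t)
      · have hm : ∀ t ∈ S, ((⁅a, t⁆ : G) : G ⧸ N) ∈
            J ⊔ S.sup fun t => zpowers ((⁅a, t⁆ : G) : G ⧸ N) := fun t ht =>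
          mem_sup_right ((Finset.le_sup (f := fun t => zpowers ((⁅a, t⁆ : G) : G ⧸ N)) ht)
            (mem_zpowers _))
        intro s hs t ht
        rcases Finset.mem_insert.mp hs with hsa | hsS <;>
          rcases Finset.mem_insert.mp ht with hta | htS
        · rw [hsa, hta, commutatorElement_self, QuotientGroup.mk_one]; exact one_mem _
        · exact hsa ▸ hm t htS
        · rw [hta, ← commutatorElement_inv, QuotientGroup.mk_inv]; exact inv_mem (hm s hsS)
        · exact mem_sup_left (hJmem s hsS t htS)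
  haveI := normal_of_le_center hJc
  refine (card_le_of_le_comap (J := J) ?_).trans (Nat.mul_le_mul_left _ hJcard)
  rw [_root_.commutator_def, commutator_le]
  intro x _ g _
  refine commElem_mem_of_generators hS (fun t ht => commElem_symm_mem ?_) g
  exact commElem_mem_of_generators hS (fun s hs => mem_comap.mpr (hJmem t ht s hs)) x

end Cfsg.Agent.VaughanLee
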